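import Cfsg.Agent.Comp.G24.D
import Cfsg.Agent.Comp.Suz.G2K
import Cfsg.Agent.Comp.PG
import Cfsg.Agent.Chev.Types
import Cfsg.Agent.J23.P2

/-! The group `G₂(4)` on 416 points. -/

set_option autoImplicit false
set_option maxRecDepth 100000

namespace CF.Comp.G24

open CF.J23

universe u

theorem maxIn_smul {G Ω : Type*} [Group G] [MulAction G Ω] {H : Subgroup G} {y : Ω} {h : G}
    (hM : MaxIn (stabIn H y) H) (hh : h ∈ H) : MaxIn (stabIn H (h • y)) H := by
  have e : ∀ k, h * (h⁻¹ * k * h) * h⁻¹ = k := fun k => by group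
  have k1 : ∀ {k}, k ∈ stabIn H y ↔ h * k * h⁻¹ ∈ stabIn H (h • y) := by
    simp only [mem_stabIn, conj_mem_iff hh, conj_smul_smul_iff, implies_true]
  refine ⟨inf_le_left, fun c => hM.2.1 (le_antisymm hM.1 fun k hk => k1.2 (c.ge ((conj_mem_iff hh k).2 hk))),
    fun K h1 h2 => (hM.2.2 (K.comap (MulAut.conj h).toMonoidHom) (fun k hk => h1 (k1.1 hk)) fun k hk =>
      (conj_mem_iff hh k).1 (h2 hk)).imp (fun c => le_antisymm (fun k hk => ?_) h1) fun c =>
        le_antisymm h2 fun k hk => ?_⟩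
  · exact e k ▸ k1.1 (c.le (show h * _ * h⁻¹ ∈ K from (e k).symm ▸ hk))
  · exact e k ▸ c.ge ((conj_mem_iff hh _).1 ((e k).symm ▸ hk))

theorem chK : ChainGe K0 K1 416 9 5 KW KC 251596800 :=
  ⟨rfl, by decide, by decide, slp_of_slpOK (by decide +kernel), by decide +kernel, by decide +kernel,
    by decide +kernel⟩

theorem srt : sorted Ts 416 = true := by decide +kernel

theorem inc : incOK Suz.G0 K0 Ts 1365 416 = true := by decide +kernel

/-- the nets -/
noncomputable def N : List Net := lapp K0 K1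

theorem relJ : lall (fun r => baseFix N KC (subst JW r)) U2 = true := by decide +kernel

theorem exists_exact (F : Type u) [Field F] [Fintype F] (hF : Fintype.card F = 4) :
    ∃ (Ω : Type u) (_ : MulAction (Cfsg.Lie.chevG2.group F) Ω) (D : Dom Ω 416) (f : ℕ → Cfsg.Lie.chevG2.group F),
      Exact D N f KC ⊤ := by
  obtain ⟨el, hT⟩ := exists_ok_four hF
  have hc : Nat.card (Cfsg.Lie.chevG2.group F) = 251596800 := CF.Chev.cardG2 F (Nat.card_eq_fintype_card.trans hF)
  have := Nat.finite_of_card_ne_zero (hc ▸ by decide : Nat.card (Cfsg.Lie.chevG2.group F) ≠ 0)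
  obtain ⟨_, _, _, g, h1, h2⟩ := (LinOK.hasReps_chev (D := Cfsg.Lie.chevG2) Suz.linG hT (tabQ_tot 1 1 (by decide))
    (by decide +kernel) Suz.chevG).inc (by decide +kernel) srt inc
  exact ⟨_, _, _, _, chK.exact h1 h2 (fun _ => trivial) (Subgroup.card_top.trans hc).le⟩

variable {G Ω : Type*} [Group G] [MulAction G Ω] {D : Dom Ω 416} {f : ℕ → G} (hE : Exact D N f KC ⊤)
include hE

theorem exact1 : Exact D N f KC.tail (stabIn ⊤ (D.pt 0)) := Exact.tail (L := KC.head (by simp [KC])) hE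

theorem card1 : Nat.card (stabIn (⊤ : Subgroup G) (D.pt 0)) = 604800 := (exact1 hE).card.trans (by decide +kernel)

theorem mem1 {ws : List (List ℕ)} (h : lall (fixW N 0) ws = true) : ∀ w ∈ ws, ev f w ∈ stabIn ⊤ (D.pt 0) :=
  fun w hw => ⟨trivial, hE.reps.fixW (by decide) (lall_iff.1 h w hw)⟩

theorem exact2 : Exact D N f C2 (stabIn ⊤ (D.pt 0)) :=
  ⟨hE.reps, hE.lt, by decide +kernel, (exact1 hE).fin, mem1 hE (by decide +kernel),
    (card1 hE).trans_le (by decide +kernel)⟩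

theorem max0 : MaxIn (stabIn (⊤ : Subgroup G) (D.pt 0)) ⊤ :=
  Exact.maxIn (L := KC.head (by simp [KC])) hE (ts := T0) (fun _ _ => trivial) (by decide +kernel)
    (by decide +kernel)

theorem max1 (x : G) (hx : x ∉ stabIn ⊤ (D.pt 0)) :
    MaxIn (stabIn (stabIn (⊤ : Subgroup G) (D.pt 0)) (x • D.pt 0)) (stabIn ⊤ (D.pt 0)) := by
  have k : ∀ {ts : List Sub}, lall (fixW N 0) (lmap Sub.t ts) = true → ∀ T ∈ ts, ev f T.t ∈ stabIn ⊤ (D.pt 0) :=
    fun h T hT => mem1 hE h _ (lmap_eq _ _ ▸ List.mem_map_of_mem hT)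
  have h1 : x • D.pt 0 ∈ D.set _ := (Exact.orbit (L := KC.head (by simp [KC])) hE).le ⟨x, trivial, rfl⟩
  rw [show Lvl.orb _ N = Nat.lor (2 ^ 0) (Nat.lor ((KC.tail.head (by simp [KC])).orb N)
    ((C2.head (by simp [C2])).orb N)) by decide +kernel, Dom.set_lor, Dom.set_lor, D.set_two_pow (by decide)] at h1
  obtain h | h | h := h1
  · exact absurd ⟨trivial, h⟩ hx
  · obtain ⟨h, hh, e⟩ := (Exact.orbit (exact1 hE)).ge h
    exact e ▸ maxIn_smul (Exact.maxIn (exact1 hE) (ts := T1) (k (by decide +kernel)) (by decide +kernel)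
      (by decide +kernel)) hh
  · obtain ⟨h, hh, e⟩ := (Exact.orbit (exact2 hE)).ge h
    exact e ▸ maxIn_smul (Exact.maxIn (exact2 hE) (ts := T2) (k (by decide +kernel)) (by decide +kernel)
      (by decide +kernel)) hh

theorem equiv1 : Nonempty (PG P2.N ≃* stabIn (⊤ : Subgroup G) (D.pt 0)) := by
  have := P2.simpleP
  have := (exact1 hE).fin
  obtain ⟨φ, h1, h2, -⟩ := (bnd2 (ug_rels U2)).exists_inj P2.prels P2.ptop P2.cardP (g := evs f JW)
    (fun r hr => (ev_evs JW r).trans (hE.eq_one_of_baseFix (lall_iff.1 relJ r hr))) (w := [1]) (by decide +kernel)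
    (by rw [ev_evs]; exact hE.reps.ne_of_sameW (k := 9) (w := []) (by decide) (by decide +kernel))
  have e := MonoidHom.ofInjective h1
  exact ⟨e.trans (MulEquiv.subgroupCongr (Subgroup.eq_of_le_of_card_ge
    (by rw [h2, clo_evs]; exact clo_le.2 (mem1 hE (by decide +kernel)))
    (by rw [card1 hE, ← Nat.card_congr e.toEquiv, P2.cardP])))⟩

end CF.Comp.G24
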